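import Groth.Agent.CAlgH3.Serre
import Groth.Agent.FlatCrit.Tor
import Groth.Agent.FlatCrit.Inj
import Groth.Prelude.Def_EGA4b
import Mathlib.RingTheory.Artinian.Module
import Mathlib.RingTheory.Ideal.MinimalPrime.Localization

/-!
# Flatness over an Artinian base from flatness in codimension one

`A` Artinian local, `B` with `(S₁)`, `B_red` with `(S₂)`, and flat with reduced fibre in
codimension `≤ 1`: then `B/𝔪B` is reduced and `B` is flat.
-/

universe u

open IsLocalRing TensorProduct Function

namespace Groth.Agent.FamCycLib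

section Basic

variable {B : Type u} [CommRing B] [IsNoetherianRing B]

/-- `I` is saturated with respect to the minimal primes. -/
def MinSat (I : Ideal B) : Prop :=
  ∀ x : B, (∀ q ∈ minimalPrimes B, ∃ u ∉ q, u * x ∈ I) → x ∈ I

theorem MinSat.regular {I : Ideal B} (h : MinSat I) {a x : B} (ha : ∀ q ∈ minimalPrimes B, a ∉ q)
    (hx : a * x ∈ I) : x ∈ I :=
  h x fun q hq => ⟨a, ha q hq, hx⟩

theorem height_eq_zero_of_minimal {q : Ideal B} (hq : q ∈ minimalPrimes B) : q.height = 0 := by
  have := Ideal.minimalPrimes_isPrime hq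
  exact Ideal.height_eq_zero_iff.2 hq

theorem minSat_bot (hS1 : LocCoh.HasSk 1 B B) : MinSat (⊥ : Ideal B) := by
  intro x hx
  rw [Ideal.mem_bot]
  by_contra h0
  obtain ⟨p, hp, hle⟩ := exists_le_isAssociatedPrime_of_isNoetherianRing B x h0
  have := hp.isPrime
  have hne : ∀ q ∈ minimalPrimes B, ¬ p ≤ q := fun q hq hpq => by
    obtain ⟨u, hu, hux⟩ := hx q hq
    exact hu (hpq (hle (Submodule.mem_colon_singleton.2 (by simpa using hux))))
  obtain ⟨-, c, hc⟩ := isAssociatedPrime_iff.1 hp
  have hmem : ∀ z, z ∈ p ↔ z * c = 0 := fun z => by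
    rw [hc, Submodule.mem_colon_singleton, Submodule.mem_bot, smul_eq_mul]
  let Bp := Localization.AtPrime p
  have hdim : (1 : WithBot ℕ∞) ≤ ringKrullDim Bp := by
    rw [IsLocalization.AtPrime.ringKrullDim_eq_height p Bp, ← WithBot.coe_one, WithBot.coe_le_coe,
      Order.one_le_iff_pos, pos_iff_ne_zero]
    intro h
    exact hne p (Ideal.height_eq_zero_iff.1 h) le_rfl
  have hdepth : (1 : ℕ∞) ≤ LocCoh.depth Bp Bp := by
    have h := (CAlgH3.hasSk_self_iff 1).1 hS1 p
    rw [Nat.cast_one, min_eq_left hdim, ← WithBot.coe_one, WithBot.coe_le_coe] at h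
    exact h
  obtain ⟨z, hz, hreg⟩ := CAlgH3.exists_regular_of_one_le_depth hdepth
  obtain ⟨⟨b, s⟩, hb⟩ := IsLocalization.surj p.primeCompl z
  have hbp : b ∈ p := by
    rw [← IsLocalization.AtPrime.to_map_mem_maximal_iff Bp p b, ← hb]
    exact Ideal.mul_mem_right _ _ hz
  have hc0 : algebraMap B Bp c = 0 := by
    refine hreg.right_eq_zero_of_smul ?_
    have : z * algebraMap B Bp (s : B) * algebraMap B Bp c = 0 := by
      rw [hb, ← map_mul, (hmem b).1 hbp, map_zero]
    rw [mul_right_comm] at this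
    exact (IsLocalization.map_units Bp s).mul_left_eq_zero.1 this
  obtain ⟨⟨v, hv⟩, hvc⟩ := (IsLocalization.map_eq_zero_iff p.primeCompl Bp c).1 hc0
  exact hv ((hmem v).2 hvc)

/-- The consequence of `(S₂)` for `B_red` that is used. -/
theorem exists_mul_mem_of_hasSk_two (hS2 : LocCoh.HasSk 2 (B ⧸ nilradical B) (B ⧸ nilradical B))
    {p : Ideal B} [p.IsPrime] (hp : 2 ≤ p.height) {a : B} (hap : a ∈ p)
    (ha : ∀ q ∈ minimalPrimes B, a ∉ q) {r : B} (hr : ∀ b ∈ p, b * r ∈ Ideal.span {a} ⊔ nilradical B) :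
    ∃ u ∉ p, u * r ∈ Ideal.span {a} ⊔ nilradical B := by
  set R := B ⧸ nilradical B
  let mk := Ideal.Quotient.mk (nilradical B)
  have hsurj : Function.Surjective mk := Ideal.Quotient.mk_surjective
  let e : PrimeSpectrum R ≃o PrimeSpectrum B :=
    { Equiv.ofBijective (PrimeSpectrum.comap mk) ⟨PrimeSpectrum.comap_injective_of_surjective mk hsurj,
        fun P => ⟨⟨P.asIdeal.map mk, Ideal.map_isPrime_of_surjective hsurj (by
          rw [Ideal.mk_ker]; exact nilradical_le_prime _)⟩, PrimeSpectrum.ext (by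
          show (P.asIdeal.map mk).comap mk = P.asIdeal
          rw [Ideal.comap_map_of_surjective mk hsurj, ← RingHom.ker_eq_comap_bot, Ideal.mk_ker]
          exact sup_eq_left.2 (nilradical_le_prime _))⟩⟩ with
      map_rel_iff' := fun {P Q} => ⟨fun h => by
        have := Ideal.map_mono (f := mk) h
        show P.asIdeal ≤ Q.asIdeal
        change (P.asIdeal.comap mk).map mk ≤ (Q.asIdeal.comap mk).map mk at this
        rwa [Ideal.map_comap_of_surjective mk hsurj, Ideal.map_comap_of_surjective mk hsurj] at this,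
        fun h => Ideal.comap_mono h⟩ }
  set P' := e.symm ⟨p, inferInstance⟩ with hP'
  set p' := P'.asIdeal
  have hcomap : p'.comap mk = p := congrArg PrimeSpectrum.asIdeal (e.apply_symm_apply ⟨p, inferInstance⟩)
  have hmem : ∀ b, mk b ∈ p' ↔ b ∈ p := fun b => by rw [← Ideal.mem_comap, hcomap]
  have hh : (2 : ℕ∞) ≤ p'.height := by
    refine le_of_le_of_eq hp ?_
    rw [show p = (⟨p, inferInstance⟩ : PrimeSpectrum B).asIdeal from rfl, PrimeSpectrum.height_eq_orderHeight,
      show p' = P'.asIdeal from rfl, PrimeSpectrum.height_eq_orderHeight]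
    exact (Order.height_orderIso e.symm ⟨p, inferInstance⟩).symm
  let Rp := Localization.AtPrime p'
  have hdim : (2 : WithBot ℕ∞) ≤ ringKrullDim Rp := by
    rw [IsLocalization.AtPrime.ringKrullDim_eq_height p' Rp]
    exact WithBot.coe_le_coe.2 hh
  have hdepth : (2 : ℕ∞) ≤ LocCoh.depth Rp Rp := by
    have h := (CAlgH3.hasSk_self_iff 2).1 hS2 p'
    rw [Nat.cast_two, min_eq_left hdim] at h
    exact WithBot.coe_le_coe.1 h
  have : IsReduced R := Ideal.isRadical_iff_quotient_reduced (nilradical B) |>.1 (Ideal.radical_isRadical _)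
  have hareg : IsSMulRegular R (mk a) := IsSMulRegular.of_right_eq_zero_of_smul fun x hx => by
    obtain ⟨x, rfl⟩ := hsurj x
    rw [smul_eq_mul, ← map_mul, Ideal.Quotient.eq_zero_iff_mem] at hx
    refine Ideal.Quotient.eq_zero_iff_mem.2 ?_
    rw [nilradical, ← Ideal.sInf_minimalPrimes, Submodule.mem_sInf]
    intro q hq
    have := Ideal.minimalPrimes_isPrime hq
    exact (this.mem_or_mem (nilradical_le_prime q hx)).resolve_left (ha q hq)
  set a' := algebraMap R Rp (mk a)
  have ha'm : a' ∈ maximalIdeal Rp := (IsLocalization.AtPrime.to_map_mem_maximal_iff Rp p' _).2 ((hmem a).2 hap)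
  have ha' : IsSMulRegular Rp a' := IsSMulRegular.of_right_eq_zero_of_smul (M := Rp) fun z hz => by
    obtain ⟨⟨x, s⟩, hx⟩ := IsLocalization.surj p'.primeCompl z
    have h0 : algebraMap R Rp (mk a * x) = 0 := by
      rw [map_mul, ← hx, ← mul_assoc, show a' * z = 0 from hz, zero_mul]
    obtain ⟨v, hv⟩ := (IsLocalization.map_eq_zero_iff p'.primeCompl Rp _).1 h0
    have h1 : (v : R) * x = 0 := hareg.right_eq_zero_of_smul (by rw [smul_eq_mul]; linear_combination hv)
    have h2 : algebraMap R Rp x = 0 := (IsLocalization.map_eq_zero_iff p'.primeCompl Rp _).2 ⟨v, h1⟩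
    rw [h2] at hx
    exact (IsLocalization.map_units Rp s).mul_left_eq_zero.1 hx
  have hnt := _root_.nontrivial_quotSMulTop_of_mem_maximalIdeal Rp ha'm
  have hd1 : (1 : ℕ∞) ≤ LocCoh.depth Rp (QuotSMulTop a' Rp) := by
    rw [← CAlgH3.depth_quotSMulTop_add_one ha'm ha', show (2 : ℕ∞) = ((1 + 1 : ℕ) : ℕ∞) from rfl,
      CAlgH3.natCast_add_one_le_iff, Nat.cast_one] at hdepth
    exact hdepth
  obtain ⟨z, hz, hreg⟩ := CAlgH3.exists_regular_of_one_le_depth hd1
  obtain ⟨⟨b, s⟩, hb⟩ := IsLocalization.surj p'.primeCompl z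
  obtain ⟨b, rfl⟩ := hsurj b
  have hbp : b ∈ p := by
    rw [← hmem, ← IsLocalization.AtPrime.to_map_mem_maximal_iff Rp p', ← hb]
    exact Ideal.mul_mem_right _ _ hz
  obtain ⟨c, hc, n, hn, hcn⟩ := Submodule.mem_sup.1 (hr b hbp)
  obtain ⟨c, rfl⟩ := Ideal.mem_span_singleton'.1 hc
  have h0 : (Submodule.Quotient.mk (algebraMap R Rp (mk r)) : QuotSMulTop a' Rp) = 0 := by
    refine hreg.right_eq_zero_of_smul ?_
    rw [← Submodule.Quotient.mk_smul, Submodule.Quotient.mk_eq_zero, Submodule.mem_smul_pointwise_iff_exists]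
    obtain ⟨s', hs'⟩ := (IsLocalization.map_units Rp s).exists_right_inv
    refine ⟨algebraMap R Rp (mk c) * s', trivial, ?_⟩
    have : mk (b * r) = mk c * mk a := by
      rw [← hcn, map_add, Ideal.Quotient.eq_zero_iff_mem.2 hn, add_zero, map_mul]
    rw [smul_eq_mul, smul_eq_mul]
    calc a' * (algebraMap R Rp (mk c) * s') = algebraMap R Rp (mk c * mk a) * s' := by rw [map_mul]; ring
      _ = algebraMap R Rp (mk b * mk r) * s' := by rw [← this, map_mul]
      _ = z * algebraMap R Rp (mk r) := by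
        rw [map_mul, ← hb, mul_assoc, mul_assoc, mul_left_comm (algebraMap R Rp (s : R)),
          hs', mul_one]
  obtain ⟨y, -, hy⟩ := (Submodule.mem_smul_pointwise_iff_exists _ _ _).1 ((Submodule.Quotient.mk_eq_zero _).1 h0)
  obtain ⟨⟨x, w⟩, hx⟩ := IsLocalization.surj p'.primeCompl y
  obtain ⟨x, rfl⟩ := hsurj x
  obtain ⟨⟨v, hv⟩, hvw⟩ := (IsLocalization.eq_iff_exists p'.primeCompl Rp (x := (w : R) * mk r) (y := mk a * mk x)).1 (by
    rw [map_mul, map_mul, ← hx, ← hy, smul_eq_mul]; ring)
  obtain ⟨v, rfl⟩ := hsurj v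
  obtain ⟨w', hw'⟩ := hsurj (w : R)
  refine ⟨v * w', fun h => ?_, ?_⟩
  · have := (hmem _).2 h
    rw [map_mul, hw'] at this
    exact (P'.isPrime.mem_or_mem this).elim hv w.2
  · have h1 : mk (v * w' * r - a * (v * x)) = 0 := by
      rw [map_sub, map_mul, map_mul, map_mul, map_mul, hw', sub_eq_zero]
      linear_combination hvw
    rw [← sub_add_cancel (v * w' * r) (a * (v * x)), add_comm]
    exact Submodule.add_mem_sup (Ideal.mem_span_singleton'.2 ⟨v * x, by ring⟩) (Ideal.Quotient.eq_zero_iff_mem.1 h1)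

end Basic

section Flat

variable {A : Type u} [CommRing A] {M : Type u} [AddCommGroup M] [Module A M] [Module.Flat A M]

/-- For a flat module `(I : t) M = (I M : t)`, used when `I : t` is the maximal ideal. -/
theorem mem_smul_of_smul_mem [IsLocalRing A] {I : Ideal A} {t : A} (htI : t ∉ I)
    (htm : ∀ s ∈ maximalIdeal A, s * t ∈ I) {x : M} (hx : t • x ∈ I • (⊤ : Submodule A M)) :
    x ∈ maximalIdeal A • (⊤ : Submodule A M) := by
  let g : (A ⧸ maximalIdeal A) →ₗ[A] A ⧸ I :=
    Submodule.liftQ _ ((Submodule.mkQ I) ∘ₗ LinearMap.toSpanSingleton A A t) fun s hs =>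
      (Submodule.Quotient.mk_eq_zero I).2 (htm s hs)
  have hg : Injective g := by
    rw [injective_iff_map_eq_zero]
    intro c hc
    obtain ⟨c, rfl⟩ := Submodule.Quotient.mk_surjective _ c
    refine (Submodule.Quotient.mk_eq_zero _).2 ((IsLocalRing.mem_maximalIdeal _).2 fun hcu => htI ?_)
    have : c * t ∈ I := (Submodule.Quotient.mk_eq_zero I).1 hc
    exact (Ideal.unit_mul_mem_iff_mem I hcu).1 this
  have hinj := Module.Flat.rTensor_preserves_injective_linearMap (M := M) g hg
  have h0 : g.rTensor M ((Submodule.Quotient.mk (1 : A) : A ⧸ maximalIdeal A) ⊗ₜ[A] x) = 0 := by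
    rw [LinearMap.rTensor_tmul]
    show (Submodule.Quotient.mk ((1 : A) * t) : A ⧸ I) ⊗ₜ[A] x = 0
    rw [one_mul, show (Submodule.Quotient.mk t : A ⧸ I) = t • Submodule.Quotient.mk (1 : A) by
      rw [← Submodule.Quotient.mk_smul, smul_eq_mul, mul_one], smul_tmul]
    refine (TensorProduct.quotTensorEquivQuotSMul M I).injective ?_
    rw [map_zero, show (Submodule.Quotient.mk (1 : A) : A ⧸ I) = Ideal.Quotient.mk I 1 from rfl,
      TensorProduct.quotTensorEquivQuotSMul_mk_tmul, one_smul]
    exact (Submodule.Quotient.mk_eq_zero _).2 hx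
  have h1 := (injective_iff_map_eq_zero _).1 hinj _ h0
  have h2 := congrArg (TensorProduct.quotTensorEquivQuotSMul M (maximalIdeal A)) h1
  rw [map_zero, show (Submodule.Quotient.mk (1 : A) : A ⧸ maximalIdeal A) = Ideal.Quotient.mk _ 1 from rfl,
    TensorProduct.quotTensorEquivQuotSMul_mk_tmul, one_smul] at h2
  exact (Submodule.Quotient.mk_eq_zero _).1 h2

end Flat

section Main

variable {A : Type u} [CommRing A] [IsArtinianRing A] [IsLocalRing A]
variable {B : Type u} [CommRing B] [Algebra A B] [IsNoetherianRing B]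

theorem map_maximalIdeal_le_nilradical : (maximalIdeal A).map (algebraMap A B) ≤ nilradical B := by
  rw [Ideal.map_le_iff_le_comap]
  intro s hs
  obtain ⟨n, hn⟩ := IsArtinianRing.isNilpotent_jacobson_bot (R := A)
  rw [IsLocalRing.jacobson_eq_maximalIdeal ⊥ bot_ne_top] at hn
  have h : s ^ n ∈ maximalIdeal A ^ n := Ideal.pow_mem_pow hs n
  rw [hn] at h
  exact ⟨n, by rw [← map_pow, Ideal.mem_bot.1 h, map_zero]; exact zero_mem _⟩

variable (hcodim : ∀ (q : Ideal B) [q.IsPrime], q.height ≤ 1 →
      Module.Flat A (Localization.AtPrime q) ∧ IsReduced (EGA4.FibLocRing A B q))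

theorem comap_eq_maximalIdeal (q : Ideal B) [q.IsPrime] : q.comap (algebraMap A B) = maximalIdeal A :=
  IsLocalRing.eq_maximalIdeal inferInstance

theorem mem_map_of_smul_top {q : Ideal B} [q.IsPrime] {I : Ideal A} {x : B}
    (h : algebraMap B (Localization.AtPrime q) x ∈ I • (⊤ : Submodule A (Localization.AtPrime q))) :
    ∃ u ∉ q, u * x ∈ I.map (algebraMap A B) := by
  have h1 : algebraMap B (Localization.AtPrime q) x ∈
      (I.map (algebraMap A B)).map (algebraMap B (Localization.AtPrime q)) := by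
    rw [Ideal.map_map, ← IsScalarTower.algebraMap_eq]
    rw [Ideal.smul_top_eq_map] at h
    exact h
  obtain ⟨u, hu, hux⟩ := (IsLocalization.algebraMap_mem_map_algebraMap_iff q.primeCompl (Localization.AtPrime q) _ _).1 h1
  exact ⟨u, hu, hux⟩

theorem map_mem_smul_top {q : Ideal B} [q.IsPrime] {I : Ideal A} {x : B} (h : x ∈ I.map (algebraMap A B)) :
    algebraMap B (Localization.AtPrime q) x ∈ I • (⊤ : Submodule A (Localization.AtPrime q)) := by
  rw [Ideal.smul_top_eq_map]
  show algebraMap B (Localization.AtPrime q) x ∈ I.map (algebraMap A (Localization.AtPrime q))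
  rw [IsScalarTower.algebraMap_eq A B (Localization.AtPrime q), ← Ideal.map_map]
  exact Ideal.mem_map_of_mem _ h

include hcodim in
theorem exists_mul_mem_map_max {q : Ideal B} [q.IsPrime] (hq : q.height ≤ 1) {I : Ideal A} {t : A}
    (htI : t ∉ I) (htm : ∀ s ∈ maximalIdeal A, s * t ∈ I) {b : B}
    (hb : algebraMap A B t * b ∈ I.map (algebraMap A B)) :
    ∃ u ∉ q, u * b ∈ (maximalIdeal A).map (algebraMap A B) := by
  have := (hcodim q hq).1
  refine mem_map_of_smul_top (mem_smul_of_smul_mem htI htm ?_)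
  have := map_mem_smul_top (q := q) hb
  rwa [map_mul, ← IsScalarTower.algebraMap_apply, ← Algebra.smul_def] at this

include hcodim in
theorem colon_le_nilradical {I : Ideal A} {t : A} (htI : t ∉ I) (htm : ∀ s ∈ maximalIdeal A, s * t ∈ I)
    {b : B} (hb : algebraMap A B t * b ∈ I.map (algebraMap A B)) : b ∈ nilradical B := by
  rw [nilradical, ← Ideal.sInf_minimalPrimes, Submodule.mem_sInf]
  intro q hq
  have := Ideal.minimalPrimes_isPrime hq
  obtain ⟨u, hu, hub⟩ := exists_mul_mem_map_max hcodim ((height_eq_zero_of_minimal hq).le.trans zero_le_one) htI htm hb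
  exact (this.mem_or_mem (nilradical_le_prime q (map_maximalIdeal_le_nilradical hub))).resolve_left hu

include hcodim in
theorem nilradical_mul_mem {n : B} (hn : n ∈ nilradical B) {q : Ideal B} (hq : q ∈ minimalPrimes B) :
    ∃ u ∉ q, u * n ∈ (maximalIdeal A).map (algebraMap A B) := by
  have := Ideal.minimalPrimes_isPrime hq
  have hred := (hcodim q ((height_eq_zero_of_minimal hq).le.trans zero_le_one)).2
  refine mem_map_of_smul_top ?_
  rw [Ideal.smul_top_eq_map]
  show algebraMap B (Localization.AtPrime q) n ∈ (maximalIdeal A).map (algebraMap A (Localization.AtPrime q))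
  rw [← comap_eq_maximalIdeal (A := A) q]
  refine Ideal.Quotient.eq_zero_iff_mem.1 (IsReduced.eq_zero (R := EGA4.FibLocRing A B q) _ ?_)
  exact ((mem_nilradical.1 hn).map _).map _

include hcodim in
theorem nilradical_mul_mem_of_minSat {I : Ideal A} (hI : MinSat (I.map (algebraMap A B))) {t : A}
    (htm : ∀ s ∈ maximalIdeal A, s * t ∈ I) {n : B} (hn : n ∈ nilradical B) :
    algebraMap A B t * n ∈ I.map (algebraMap A B) := by
  refine hI _ fun q hq => ?_
  obtain ⟨u, hu, hun⟩ := nilradical_mul_mem hcodim (hn := hn) (hq := hq)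
  refine ⟨u, hu, ?_⟩
  rw [mul_left_comm]
  have hle : Ideal.span {algebraMap A B t} * (maximalIdeal A).map (algebraMap A B) ≤ I.map (algebraMap A B) := by
    rw [← Set.image_singleton, ← Ideal.map_span, ← Ideal.map_mul]
    refine Ideal.map_mono (Ideal.mul_le.2 fun a ha s hs => ?_)
    obtain ⟨c, rfl⟩ := Ideal.mem_span_singleton'.1 ha
    rw [mul_assoc, mul_comm t s]
    exact Ideal.mul_mem_left _ _ (htm s hs)
  exact hle (Ideal.mul_mem_mul (Ideal.mem_span_singleton_self _) hun)

include hcodim in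
theorem minSat_step (hS2 : LocCoh.HasSk 2 (B ⧸ nilradical B) (B ⧸ nilradical B)) {I : Ideal A}
    (hI : MinSat (I.map (algebraMap A B))) {t : A} (htI : t ∉ I) (htm : ∀ s ∈ maximalIdeal A, s * t ∈ I) :
    MinSat ((I ⊔ Ideal.span {t}).map (algebraMap A B)) := by
  intro x hx
  by_contra hxJ
  set J := (I ⊔ Ideal.span {t}).map (algebraMap A B) with hJ
  obtain ⟨p, hp, hle⟩ := exists_le_isAssociatedPrime_of_isNoetherianRing B (Ideal.Quotient.mk J x)
    (fun h => hxJ (Ideal.Quotient.eq_zero_iff_mem.1 h))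
  have hpp := hp.isPrime
  obtain ⟨-, ybar, hy'⟩ := isAssociatedPrime_iff.1 hp
  obtain ⟨y, rfl⟩ := Ideal.Quotient.mk_surjective ybar
  have hy : ∀ z, z ∈ p ↔ z * y ∈ J := fun z => by
    rw [hy', Submodule.mem_colon_singleton, Submodule.mem_bot]
    exact (Ideal.Quotient.eq_zero_iff_mem (I := J) (a := z * y))
  have hne : ∀ q ∈ minimalPrimes B, ¬ p ≤ q := fun q hq hpq => by
    obtain ⟨u, hu, hux⟩ := hx q hq
    exact hu (hpq (hle (Submodule.mem_colon_singleton.2 ((Submodule.mem_bot B).2
      (Ideal.Quotient.eq_zero_iff_mem.2 hux)))))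
  obtain ⟨a, hap, ha⟩ : ∃ a ∈ p, ∀ q ∈ minimalPrimes B, a ∉ q := by
    have hfin := minimalPrimes.finite_of_isNoetherianRing B
    by_contra hcon
    push_neg at hcon
    have hsub : (p : Set B) ⊆ ⋃ q ∈ ((hfin.toFinset : Set (Ideal B))), (id q : Ideal B) := fun a ha => by
      obtain ⟨q, hq, haq⟩ := hcon a ha
      exact Set.mem_biUnion (by simpa using hq) haq
    obtain ⟨q, hq, hpq⟩ := (Ideal.subset_union_prime ⊥ ⊥ fun q hq _ _ => Ideal.minimalPrimes_isPrime (by simpa using hq)).1 hsub
    exact hne q (by simpa using hq) hpq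
  have hdec : ∀ z ∈ p, ∃ r, z * y - algebraMap A B t * r ∈ I.map (algebraMap A B) := fun z hz => by
    have h := (hy z).1 hz
    rw [hJ, Ideal.map_sup, Ideal.map_span, Set.image_singleton] at h
    obtain ⟨i, hi, w, hw, hiw⟩ := Submodule.mem_sup.1 h
    obtain ⟨r, rfl⟩ := Ideal.mem_span_singleton'.1 hw
    exact ⟨r, by rw [← hiw, mul_comm r, add_sub_cancel_right]; exact hi⟩
  have hout : ∀ u ∉ p, u * y ∉ J := fun u hu h => hu ((hy u).2 h)
  by_cases hh : p.height ≤ 1
  · obtain ⟨hflat, hred⟩ := hcodim p hh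
    set M := Localization.AtPrime p
    let u : M →ₗ[A] M := LinearMap.mulLeft A (algebraMap B M a)
    have hjac : (maximalIdeal A).map (algebraMap A M) ≤ Ideal.jacobson ⊥ := by
      refine le_trans ?_ (IsLocalRing.maximalIdeal_le_jacobson ⊥)
      rw [IsScalarTower.algebraMap_eq A B M, ← Ideal.map_map]
      refine (Ideal.map_mono map_maximalIdeal_le_nilradical).trans ?_
      rw [Ideal.map_le_iff_le_comap]
      exact fun b hb => (IsLocalization.AtPrime.to_map_mem_maximal_iff M p b).2 (nilradical_le_prime p hb)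
    have hfib : ∀ z : M, algebraMap B M a * z ∈ maximalIdeal A • (⊤ : Submodule A M) →
        z ∈ maximalIdeal A • (⊤ : Submodule A M) := by
      intro z hz
      rw [Ideal.smul_top_eq_map] at hz ⊢
      change _ ∈ (maximalIdeal A).map (algebraMap A M) at hz ⊢
      rw [← comap_eq_maximalIdeal (A := A) p] at hz ⊢
      refine Ideal.Quotient.eq_zero_iff_mem.1 (IsReduced.eq_zero (R := EGA4.FibLocRing A B p) _ ?_)
      refine IsNilpotent.map (mem_nilradical.1 ?_) _
      rw [nilradical, ← Ideal.sInf_minimalPrimes, Submodule.mem_sInf]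
      intro P hP
      have := Ideal.minimalPrimes_isPrime hP
      have hmin : Ideal.comap (algebraMap B M) P ∈ minimalPrimes B := by
        rw [← Ideal.height_eq_zero_iff]
        exact (IsLocalization.height_under p.primeCompl P).trans (height_eq_zero_of_minimal hP)
      refine (this.mem_or_mem ?_).resolve_left (fun h => ha _ hmin h)
      have hzP : (p.comap (algebraMap A B)).map (algebraMap A M) ≤ P := by
        rw [IsScalarTower.algebraMap_eq A B M, ← Ideal.map_map, comap_eq_maximalIdeal (A := A) p,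
          Ideal.map_le_iff_le_comap]
        exact map_maximalIdeal_le_nilradical.trans (nilradical_le_prime _)
      exact hzP hz
    have hinj : Injective (u.lTensor (ResidueField A)) := by
      rw [injective_iff_map_eq_zero]
      intro w hw
      obtain ⟨z, rfl⟩ := TensorProduct.mk_surjective A M (ResidueField A) Ideal.Quotient.mk_surjective w
      change (Ideal.Quotient.mk (maximalIdeal A) 1) ⊗ₜ[A] (algebraMap B M a * z) = 0 at hw
      have hw' := congrArg (TensorProduct.quotTensorEquivQuotSMul M (maximalIdeal A)) hw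
      rw [map_zero] at hw'
      refine (TensorProduct.quotTensorEquivQuotSMul M (maximalIdeal A)).injective ?_
      erw [map_zero]
      change TensorProduct.quotTensorEquivQuotSMul M (maximalIdeal A) (Ideal.Quotient.mk (maximalIdeal A) 1 ⊗ₜ[A] z) = 0
      erw [TensorProduct.quotTensorEquivQuotSMul_mk_tmul] at hw' ⊢
      rw [one_smul] at hw' ⊢
      exact (Submodule.Quotient.mk_eq_zero _).2 (hfib z ((Submodule.Quotient.mk_eq_zero _).1 hw'))
    have hy1 : algebraMap B M y ∈ (I ⊔ Ideal.span {t}) • (⊤ : Submodule A M) := by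
      refine FlatCrit.mem_smul_of_map_mem (S := M) u hinj hjac _ _ ?_
      show algebraMap B M a * algebraMap B M y ∈ _
      rw [← map_mul]
      exact map_mem_smul_top ((hy a).1 hap)
    obtain ⟨v, hv, hvy⟩ := mem_map_of_smul_top hy1
    exact hout v hv hvy
  · have hh' : (2 : ℕ∞) ≤ p.height := by
      have := Order.add_one_le_of_lt (not_le.1 hh)
      exact le_trans (by norm_num) this
    choose r hr using hdec
    have hbr : ∀ b (hb : b ∈ p), b * r a hap ∈ Ideal.span {a} ⊔ nilradical B := by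
      intro b hb
      have h : algebraMap A B t * (b * r a hap - a * r b hb) ∈ I.map (algebraMap A B) := by
        have := sub_mem (Ideal.mul_mem_left _ a (hr b hb)) (Ideal.mul_mem_left _ b (hr a hap))
        convert this using 1
        ring
      rw [← sub_add_cancel (b * r a hap) (a * r b hb), add_comm]
      exact Submodule.add_mem_sup (Ideal.mul_mem_right _ _ (Ideal.mem_span_singleton_self a))
        (colon_le_nilradical hcodim htI htm h)
    obtain ⟨v, hv, hvr⟩ := exists_mul_mem_of_hasSk_two hS2 hh' hap ha hbr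
    obtain ⟨w, hw, n, hn, hwn⟩ := Submodule.mem_sup.1 hvr
    obtain ⟨c, rfl⟩ := Ideal.mem_span_singleton'.1 hw
    refine hout v hv ?_
    have h1 : a * (v * y - algebraMap A B t * c) ∈ I.map (algebraMap A B) := by
      have := add_mem (Ideal.mul_mem_left _ v (hr a hap)) (nilradical_mul_mem_of_minSat hcodim hI htm hn)
      convert this using 1
      linear_combination (-(algebraMap A B t)) * hwn
    have h2 := hI.regular ha h1
    rw [← sub_add_cancel (v * y) (algebraMap A B t * c), hJ, Ideal.map_sup, Ideal.map_span, Set.image_singleton]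
    exact Submodule.add_mem_sup h2 (Ideal.mul_mem_right _ _ (Ideal.mem_span_singleton_self _))

theorem exists_socle {I : Ideal A} (hI : I < maximalIdeal A) :
    ∃ t ∈ maximalIdeal A, t ∉ I ∧ ∀ s ∈ maximalIdeal A, s * t ∈ I := by
  classical
  obtain ⟨N, hN⟩ := IsArtinianRing.isNilpotent_jacobson_bot (R := A)
  rw [IsLocalRing.jacobson_eq_maximalIdeal ⊥ bot_ne_top] at hN
  have hex : ∃ n, maximalIdeal A ^ n ≤ I := ⟨N, hN.le.trans bot_le⟩
  obtain ⟨n, hn, hmin⟩ : ∃ n, maximalIdeal A ^ n ≤ I ∧ ∀ j < n, ¬ maximalIdeal A ^ j ≤ I :=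
    ⟨Nat.find hex, Nat.find_spec hex, fun j hj => Nat.find_min hex hj⟩
  rcases n with _ | _ | n
  · rw [pow_zero, Ideal.one_eq_top] at hn
    exact (hI.2 (le_top.trans hn)).elim
  · rw [pow_one] at hn
    exact (hI.2 hn).elim
  · obtain ⟨t, ht, htI⟩ := SetLike.not_le_iff_exists.1 (hmin (n + 1) (by omega))
    exact ⟨t, Ideal.pow_le_self (Nat.succ_ne_zero n) ht, htI,
      fun s hs => hn (by rw [pow_succ']; exact Ideal.mul_mem_mul hs ht)⟩

/-- Induction along a chain of ideals with simple steps. -/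
theorem socle_induction {P : Ideal A → Prop} (h0 : P ⊥)
    (step : ∀ I t, t ∉ I → (∀ s ∈ maximalIdeal A, s * t ∈ I) → P I → P (I ⊔ Ideal.span {t})) :
    P (maximalIdeal A) := by
  suffices ∀ I : Ideal A, I ≤ maximalIdeal A → P I → P (maximalIdeal A) from this ⊥ bot_le h0
  intro I
  induction I using (IsWellFounded.induction (r := ((· > ·) : Ideal A → Ideal A → Prop))) with
  | _ I ih =>
    intro hle hPI
    rcases hle.eq_or_lt with h | h
    · exact h ▸ hPI
    · obtain ⟨t, ht, htI, htm⟩ := exists_socle h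
      exact ih _ (lt_of_le_not_ge le_sup_left fun hh => htI (hh (Ideal.mem_sup_right (Ideal.mem_span_singleton_self t))))
        (sup_le hle ((Ideal.span_singleton_le_iff_mem _).2 ht)) (step I t htI htm hPI)

include hcodim in
theorem map_maximalIdeal_eq_nilradical (hS1 : LocCoh.HasSk 1 B B)
    (hS2 : LocCoh.HasSk 2 (B ⧸ nilradical B) (B ⧸ nilradical B)) :
    (maximalIdeal A).map (algebraMap A B) = nilradical B := by
  refine le_antisymm map_maximalIdeal_le_nilradical fun n hn => ?_
  refine socle_induction (P := fun I : Ideal A => MinSat (I.map (algebraMap A B)))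
    (by rw [Ideal.map_bot]; exact minSat_bot hS1) (fun I t h1 h2 h3 => minSat_step hcodim hS2 h3 h1 h2) n fun q hq =>
      nilradical_mul_mem hcodim (hn := hn) (hq := hq)

include hcodim in
theorem isReduced_quotient (hS1 : LocCoh.HasSk 1 B B)
    (hS2 : LocCoh.HasSk 2 (B ⧸ nilradical B) (B ⧸ nilradical B)) :
    IsReduced (B ⧸ (maximalIdeal A).map (algebraMap A B)) := by
  rw [map_maximalIdeal_eq_nilradical hcodim hS1 hS2]
  exact (Ideal.isRadical_iff_quotient_reduced _).1 (Ideal.radical_isRadical _)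

include hcodim in
theorem flat_of_codim_one (hS1 : LocCoh.HasSk 1 B B)
    (hS2 : LocCoh.HasSk 2 (B ⧸ nilradical B) (B ⧸ nilradical B)) : Module.Flat A B := by
  have hN := map_maximalIdeal_eq_nilradical hcodim hS1 hS2
  have hinj : Injective (FlatCrit.mulMap B (maximalIdeal A)) := by
    refine socle_induction (P := fun I : Ideal A => Injective (FlatCrit.mulMap B I)) ?_ ?_
    · intro x y _
      have : Subsingleton ((⊥ : Ideal A) ⊗[A] B) := inferInstance
      exact Subsingleton.elim x y
    · intro I t htI htm hI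
      rw [injective_iff_map_eq_zero] at hI ⊢
      intro w hw
      obtain ⟨i, c, rfl⟩ : ∃ (i : I ⊗[A] B) (c : B), w = LinearMap.rTensor B (Submodule.inclusion le_sup_left) i +
          (⟨t, Ideal.mem_sup_right (Ideal.mem_span_singleton_self t)⟩ : (I ⊔ Ideal.span {t} : Ideal A)) ⊗ₜ[A] c := by
        clear hw
        induction w with
        | zero => exact ⟨0, 0, by simp⟩
        | add a b ha hb =>
          obtain ⟨i, c, rfl⟩ := ha
          obtain ⟨i', c', rfl⟩ := hb
          exact ⟨i + i', c + c', by rw [map_add, tmul_add]; abel⟩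
        | tmul a b =>
          obtain ⟨a₁, ha₁, a₂, ha₂, e⟩ := Submodule.mem_sup.1 a.2
          obtain ⟨s, rfl⟩ := Ideal.mem_span_singleton'.1 ha₂
          refine ⟨⟨a₁, ha₁⟩ ⊗ₜ b, s • b, ?_⟩
          rw [LinearMap.rTensor_tmul, ← smul_tmul, ← add_tmul]
          congr 1
          exact Subtype.ext e.symm
      have hcomp : ∀ z : I ⊗[A] B, FlatCrit.mulMap B (I ⊔ Ideal.span {t})
          (LinearMap.rTensor B (Submodule.inclusion le_sup_left) z) = FlatCrit.mulMap B I z := by
        intro z
        induction z with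
        | zero => simp
        | add a b ha hb => rw [map_add, map_add, map_add, ha, hb]
        | tmul a b => rfl
      rw [map_add, hcomp, FlatCrit.mulMap_tmul] at hw
      change FlatCrit.mulMap B I i + t • c = 0 at hw
      have hc : c ∈ (maximalIdeal A).map (algebraMap A B) := by
        rw [hN]
        refine colon_le_nilradical hcodim htI htm ?_
        have h1 : t • c ∈ I • (⊤ : Submodule A B) := by
          rw [eq_neg_of_add_eq_zero_right hw, ← map_neg, ← FlatCrit.range_mulMap]
          exact ⟨_, rfl⟩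
        rw [Ideal.smul_top_eq_map, Algebra.smul_def] at h1
        exact h1
      obtain ⟨j, hj⟩ : ∃ j : I ⊗[A] B, (⟨t, Ideal.mem_sup_right (Ideal.mem_span_singleton_self t)⟩ :
          (I ⊔ Ideal.span {t} : Ideal A)) ⊗ₜ[A] c = LinearMap.rTensor B (Submodule.inclusion le_sup_left) j := by
        have hc' : c ∈ maximalIdeal A • (⊤ : Submodule A B) := by rw [Ideal.smul_top_eq_map]; exact hc
        refine Submodule.smul_induction_on hc' (fun s hs b _ => ?_) (fun a b ha hb => ?_)
        · refine ⟨⟨s * t, htm s hs⟩ ⊗ₜ b, ?_⟩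
          rw [LinearMap.rTensor_tmul, ← smul_tmul]
          rfl
        · obtain ⟨ja, hja⟩ := ha
          obtain ⟨jb, hjb⟩ := hb
          exact ⟨ja + jb, by rw [tmul_add, map_add, hja, hjb]⟩
      have h0 : i + j = 0 := by
        refine hI _ ?_
        rw [map_add, ← hcomp j, ← hj, FlatCrit.mulMap_tmul]
        exact hw
      rw [hj, ← map_add, h0, map_zero]
  refine FlatCrit.flat_of_isNilpotent ?_ (FlatCrit.quotFlat_of_field (maximalIdeal A)) ?_
  · intro x y h
    refine hinj ?_
    show TensorProduct.lid A B _ = TensorProduct.lid A B _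
    exact congrArg _ h
  · have := IsArtinianRing.isNilpotent_jacobson_bot (R := A)
    rwa [IsLocalRing.jacobson_eq_maximalIdeal ⊥ bot_ne_top] at this

end Main

end Groth.Agent.FamCycLib
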